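import Cfsg.Agent.Lib.Spor.TC.Signed

/-!
The element moving the second involution to the first: tables found by a computer search.
-/

set_option autoImplicit false
set_option maxRecDepth 100000

namespace CfsgLib.Spor.HSType.Cert.YT

open CfsgLib.Spor.TC

def edgeTbl : Tbl :=
  (.bin (.bin (.tip 0x1c0001d20001b0001c20001a0001b1000190001a300018000193000170001800001600017200013000162000110001430001100015a000140001520000200014200002000130000100001200001100000400010000114000000001040000e0000f10000d0000e10000c0000d20000b0000c40000a0000b8000090000a2000080000940000700008400006000076000050000650000400005500003000043000020000390000100002500000000013) (.tip 0xe0)) (.bin (.tip 0xf00000a0002700010a0002600012a0001d0001250001d00028a00012000284000270002600000f000274000260002500000e000264000250002340000d0002540000d0002350000b0002220000b00021a0000a000219000200000aa0001f00009a0000800024a000240001f40000400024600004000064000230001d10002200023200021000222000200002190001f000202000050001f6000030000290001e00003a000020001e80001d000111)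 .none))

def nodeTbl : Tbl :=
  (.bin (.tip 0x560000280001c20001b20001a10001930001830001700001620001320001420000220000200001000001040000040000e10000d10000c20000b40000a8000092000084000074000066000055000045000033000029000015000003000000) (.tip 0x1240000f40000e40000d40000460002220002120002090001f2))

def rowTbl : Tbl :=
  .none

/-- The relators. -/
def rels : List (List ℕ) := [
  [0, 0, 0, 0],
  [2, 2, 2, 2, 2, 2, 2],
  [4, 4, 4],
  [4, 2, 5, 3, 3],
  [4, 0, 5, 1],
  [0, 2, 0, 3, 1, 2, 1, 3],
  [0, 2, 2, 0, 3, 3, 1, 2, 2, 1, 3, 3],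
  [2, 0, 3, 2, 2, 0, 3, 3, 2, 1, 3, 2, 2, 1, 3, 3],
  [2, 2, 2, 0, 3, 3, 3, 2, 2, 1, 3, 3, 2, 2, 1, 3, 3, 2, 1, 3, 2, 1, 3, 2, 1, 3, 1],
  [6, 4, 7, 4],
  [6, 0, 7, 0],
  [6, 2, 0, 3, 7, 2, 2, 1, 3, 3],
  [6, 6],
  [2, 6, 2, 6, 2, 6],
  [8, 4, 9, 5],
  [8, 0, 9, 0],
  [8, 8],
  [8, 6, 8, 6],
  [8, 2, 0, 0, 3, 9, 4, 3, 7, 4, 2, 5, 3, 7, 4, 2],
  [8, 3, 5, 6, 2, 9, 2, 2, 1, 3, 3, 2, 2, 1, 3, 3],
  [8, 2, 0, 3, 8, 2, 0, 3, 8, 2, 0, 3, 5, 7]]

/-- The generators of the subgroup. -/
def subs : List (List ℕ) := []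

/-- The certificate. -/
noncomputable def cert : Cert :=
  ⟨10, rels, subs, edgeTbl.get 44, nodeTbl.get 24, rowTbl.get 20⟩

/-- The word traced into the subgroup. -/
def target : List ℕ := [3, 5, 9, 3, 5, 5, 6, 4, 4, 2, 8, 4, 2, 1, 1]

end CfsgLib.Spor.HSType.Cert.YT
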