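import Cfsg.Agent.Lib.Spor.HSType.Cert.YT.Data

/-!
Checks of a part of the derivation.
-/

set_option autoImplicit false

namespace CfsgLib.Spor.HSType.Cert.YT

open CfsgLib.Spor.TC

def scodes0 : List ℕ := [
  0x1,
  0x1,
  0x1,
  0x1,
  0x1,
  0x1,
  0x1,
  0x1,
  0x1,
  0x1,
  0x1,
  0x1,
  0x1,
  0x1,
  0x1,
  0x1,
  0x1,
  0x200002200003000010000300002,
  0x1,
  0x1,
  0x1,
  0x1,
  0x2b0002900003000010002300004000030000400002,
  0x2c0002d00004,
  0x1,
  0x1,
  0x1,
  0x1,
  0x1,
  0x1,
  0x1,
  0x1,
  0x300002900028000320003400036000380003a0003c0003e000400000a000030000700002,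
  0x1,
  0x50004400002000030001100002,
  0x440004600004,
  0x1,
  0x1,
  0x1,
  0x1,
  0x1,
  0x3f0003d0003e0004000042000300002900047000080000a0004a0004c0004e000500005200009000030001400002,
  0xb0000900001000050000300002,
  0x1,
  0x49000090005800002000050000a00002,
  0x57000560000e0001000003000070000a00002,
  0x110005c0005a00004,
  0x130005d0004c00004,
  0x4d0006000004,
  0x6100016000020000b0001100002,
  0x4f0006300004,
  0x5100065000180001a000030000c0000400002,
  0x1,
  0x670006a000020000e0000300002,
  0x1,
  0x690001c0006e000020000f0000500002,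
  0x1,
  0x6d0001e0007200002000100000500002,
  0x1,
  0x7500025000220004100003000110000500002,
  0x760007700004,
  0x79000530006b0006f00005000130000500002,
  0x260007b0007300004,
  0x200007d0007100004,
  0x1e0008000004]

set_option maxRecDepth 100000 in
theorem steps0 : cert.SStepsOK 0 65 :=
  Cert.SStepsOK.of_check _ (codes := scodes0) (by decide +kernel)

end CfsgLib.Spor.HSType.Cert.YT
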